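import Cfsg.Agent.H970.Cov.Sk
import Cfsg.Agent.S0295

/-!
# Block 6: no cover of `Omega7(q)` in the other characteristics (helper970, task N1)

* `exists_frob` : `Ω⁺_6(q)` contains the Frobenius group `q² : (q² - 1)`;
* `exists_orderOf` : a simple group containing `Ω⁺_6(q)` modulo its centre has in every noncentral cover by an
  elementary abelian `t`-group (`(t, q) = 1`) an element of order `(q² - 1) t`;
* `nc_b3`.
-/

set_option autoImplicit false

universe u v w

namespace Cfsg.Agent.H970.Cov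

open Matrix Cfsg.Agent.H912.Bd Cfsg.Agent.H376.Six Cfsg.Agent.H371

section Singer

variable {K : Type w} [Field K] [Fintype K]

/-- the embedding of `K²` in `K³` -/
def ext (v : Fin 2 → K) : Fin 3 → K := ![v 0, v 1, 0]

/-- `diag (M, (det M)⁻¹)` -/
def blk (M : Matrix (Fin 2) (Fin 2) K) : Matrix (Fin 3) (Fin 3) K :=
  !![M 0 0, M 0 1, 0; M 1 0, M 1 1, 0; 0, 0, (M.det)⁻¹]

theorem det_blk (M : Matrix (Fin 2) (Fin 2) K) (h : M.det ≠ 0) : (blk M).det = 1 := by
  rw [blk, det_fin_three]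
  simp only [of_apply, cons_val', cons_val_zero, cons_val_one, cons_val_two, empty_val', cons_val_fin_one, head_cons,
    tail_cons, head_fin_const]
  have : M 0 0 * M 1 1 * (M.det)⁻¹ - M 0 1 * M 1 0 * (M.det)⁻¹ = 1 := by
    rw [← sub_mul, ← det_fin_two, mul_inv_cancel₀ h]
  linear_combination this

theorem blk_mul (M N : Matrix (Fin 2) (Fin 2) K) : blk (M * N) = blk M * blk N := by
  have h : ((M * N).det)⁻¹ = (M.det)⁻¹ * (N.det)⁻¹ := by rw [det_mul, mul_inv]
  rw [blk, h]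
  ext i j
  fin_cases i <;> fin_cases j <;>
    simp [blk, Matrix.mul_apply, Fin.sum_univ_two, Fin.sum_univ_three]

theorem blk_one : blk (1 : Matrix (Fin 2) (Fin 2) K) = 1 := by
  ext i j
  fin_cases i <;> fin_cases j <;> simp [blk]

theorem blk_pow (M : Matrix (Fin 2) (Fin 2) K) (k : ℕ) : blk M ^ k = blk (M ^ k) := by
  induction k with
  | zero => rw [pow_zero, pow_zero, blk_one]
  | succ k ih => rw [pow_succ, pow_succ, blk_mul, ih]

theorem blk_ext (M : Matrix (Fin 2) (Fin 2) K) (v : Fin 2 → K) : blk M *ᵥ ext v = ext (M *ᵥ v) := by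
  ext i
  fin_cases i <;> simp [blk, ext, mulVec, dotProduct, Fin.sum_univ_two, Fin.sum_univ_three]

theorem ext_injective : Function.Injective (ext : (Fin 2 → K) → _) := by
  intro v w h
  have h0 := congrFun h 0
  have h1 := congrFun h 1
  simp only [ext, cons_val_zero, cons_val_one] at h0 h1
  funext i
  fin_cases i
  · exact h0
  · exact h1

theorem ext_add (v w : Fin 2 → K) : ext (v + w) = ext v + ext w := by
  ext i
  fin_cases i <;> simp [ext]

/-- the Singer cycle -/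
theorem exists_singer : ∃ M : Matrix (Fin 2) (Fin 2) K, M ^ (Fintype.card K ^ 2 - 1) = 1 ∧
    ∀ i, 0 < i → i < Fintype.card K ^ 2 - 1 → ∀ v : Fin 2 → K, M ^ i *ᵥ v = v → v = 0 := by
  classical
  obtain ⟨p, hp⟩ := CharP.exists K
  obtain ⟨n, hp', hn⟩ := FiniteField.card K p
  have : Fact p.Prime := ⟨hp'⟩
  let E := FiniteField.Extension K p 2
  have hE : Module.finrank K E = 2 := FiniteField.finrank_extension K p 2
  have hFE : Module.Finite K E := Module.finite_of_finrank_pos (by rw [hE]; norm_num)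
  have hfE : Finite E := Module.finite_of_finite K
  have b : Module.Basis (Fin 2) K E := Module.finBasisOfFinrankEq K E hE
  set L := Algebra.leftMulMatrix b with hL
  have hcard : Nat.card E = Fintype.card K ^ 2 := by
    rw [Module.natCard_eq_pow_finrank (K := K) (V := E), hE, Nat.card_eq_fintype_card]
  obtain ⟨ζ, hζ⟩ := IsCyclic.exists_generator (α := Eˣ)
  have hord : orderOf ζ = Fintype.card K ^ 2 - 1 := by
    rw [orderOf_eq_card_of_forall_mem_zpowers hζ, Nat.card_units, hcard]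
  refine ⟨L (ζ : E), ?_, ?_⟩
  · rw [← map_pow, ← Units.val_pow_eq_pow_val, ← hord, pow_orderOf_eq_one, Units.val_one, map_one]
  · intro i hi0 hi v hv
    rw [← map_pow] at hv
    have h1 : b.equivFun (((ζ : E) ^ i) * b.equivFun.symm v) = v := by
      have h2 := Algebra.leftMulMatrix_mulVec_repr b ((ζ : E) ^ i) (b.equivFun.symm v)
      rw [← hL] at h2
      have h3 : (⇑(b.repr (b.equivFun.symm v)) : Fin 2 → K) = v := by
        have := b.equivFun.apply_symm_apply v
        exact this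
      rw [h3, hv] at h2
      exact h2.symm
    have h4 : ((ζ : E) ^ i) * b.equivFun.symm v = b.equivFun.symm v := by
      rw [LinearEquiv.eq_symm_apply, h1]
    by_contra hv0
    have h5 : b.equivFun.symm v ≠ 0 := fun h => hv0 (by
      have := congrArg b.equivFun h
      rwa [LinearEquiv.apply_symm_apply, map_zero] at this)
    have h6 : (ζ : E) ^ i = 1 := mul_right_cancel₀ h5 (by rw [h4, one_mul])
    have h7 : ζ ^ i = 1 := Units.ext (by rw [Units.val_pow_eq_pow_val, h6, Units.val_one])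
    have h8 := orderOf_dvd_of_pow_eq_one h7
    rw [hord] at h8
    exact absurd (Nat.le_of_dvd hi0 h8) (not_le.2 hi)

/-- the subgroup `q²` -/
def uE : Multiplicative (Fin 2 → K) →* Cfsg.Omega K (Cfsg.quadFormPlus 3 K) where
  toFun v := uO (Multiplicative.ofAdd (ext (Multiplicative.toAdd v)))
  map_one' := by
    rw [toAdd_one]
    have : ext (0 : Fin 2 → K) = 0 := by
      ext i
      fin_cases i <;> simp [ext]
    rw [this, ofAdd_zero, map_one]
  map_mul' v w := by
    rw [toAdd_mul, ext_add, ofAdd_add, map_mul]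

theorem uE_injective : Function.Injective (uE (K := K)) := fun v w h =>
  Multiplicative.toAdd.injective (ext_injective (Multiplicative.ofAdd.injective (uO_injective h)))

/-- `Ω⁺_6(q)` contains the Frobenius group `q² : (q² - 1)` -/
theorem exists_frob : ∃ (M : Matrix (Fin 2) (Fin 2) K) (c : Cfsg.Omega K (Cfsg.quadFormPlus 3 K)),
    c ^ (Fintype.card K ^ 2 - 1) = 1 ∧
    (∀ (i : ℕ) (v : Fin 2 → K), c ^ i * uE (Multiplicative.ofAdd v) * (c ^ i)⁻¹ = uE (Multiplicative.ofAdd (M ^ i *ᵥ v))) ∧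
    ∀ i, 0 < i → i < Fintype.card K ^ 2 - 1 → ∀ v : Fin 2 → K, M ^ i *ᵥ v = v → v = 0 := by
  obtain ⟨M, hM1, hM⟩ := exists_singer (K := K)
  have hcard : 2 ≤ Fintype.card K := Fintype.one_lt_card
  have h3 : 1 < Fintype.card K ^ 2 - 1 := by
    have : 2 ^ 2 ≤ Fintype.card K ^ 2 := Nat.pow_le_pow_left hcard 2
    omega
  have hdet : M.det ≠ 0 := by
    intro h
    have h1 := congrArg Matrix.det hM1
    rw [det_pow, h, det_one, zero_pow (by omega)] at h1
    exact zero_ne_one h1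
  let D : SpecialLinearGroup (Fin 3) K := ⟨blk M, det_blk M hdet⟩
  have hDk : ∀ i, (D ^ i).1 = blk (M ^ i) := by
    intro i
    rw [← blk_pow]
    exact Matrix.SpecialLinearGroup.coe_pow D i
  let τ : SpecialLinearGroup (Fin 3) K →* SpecialLinearGroup (Fin 3) K :=
    { toFun := fun D => (D⁻¹).transpose
      map_one' := by
        rw [inv_one]
        exact Subtype.ext transpose_one
      map_mul' := fun A B => by
        rw [_root_.mul_inv_rev]
        apply Subtype.ext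
        change ((B⁻¹).1 * (A⁻¹).1)ᵀ = ((A⁻¹).1)ᵀ * ((B⁻¹).1)ᵀ
        rw [transpose_mul] }
  have hτ : ∀ D, τ D = (D⁻¹).transpose := fun _ => rfl
  refine ⟨M, slO le_rfl (τ D), ?_, ?_, hM⟩
  · rw [← map_pow, ← map_pow]
    have h1 : D ^ (Fintype.card K ^ 2 - 1) = 1 := by
      apply Subtype.ext
      rw [hDk, hM1, blk_one]
      rfl
    rw [h1, map_one, map_one]
  · intro i v
    rw [← map_pow, ← map_pow, hτ]
    have h1 := conj_uO' (D ^ i) (ext v)
    rw [hDk, blk_ext] at h1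
    exact h1

end Singer

section Main

variable {K : Type w} [Field K] [Fintype K]

/-- **An element of large order.** -/
theorem exists_orderOf {X : Type*} [Group X] [IsSimpleGroup X]
    (f : Cfsg.Omega K (Cfsg.quadFormPlus 3 K) →* X) (hf : f.ker ≤ Subgroup.center _) {H : Type*} [Group H]
    [Finite H] (V : Subgroup H) [V.Normal] {t : ℕ} (hV : Cov t H V) (ht : (Fintype.card K).Coprime t)
    (e : H ⧸ V ≃* X) :
    ∃ y : H, orderOf y = (Fintype.card K ^ 2 - 1) * t := by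
  classical
  obtain ⟨M, c, hc1, hcv, hM⟩ := exists_frob (K := K)
  have hcard : 2 ≤ Fintype.card K := Fintype.one_lt_card
  have h3 : 1 < Fintype.card K ^ 2 - 1 := by
    have : 2 ^ 2 ≤ Fintype.card K ^ 2 := Nat.pow_le_pow_left hcard 2
    omega
  obtain ⟨φ, hφ⟩ : ∃ φ : Cfsg.Omega K (Cfsg.quadFormPlus 3 K) →* H ⧸ V, φ.ker ≤ Subgroup.center _ :=
    ⟨e.symm.toMonoidHom.comp f, fun x hx => hf (by
      rw [MonoidHom.mem_ker] at hx ⊢
      have h1 : e.symm (f x) = 1 := hx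
      rw [← map_one e.symm] at h1
      exact e.symm.injective h1)⟩
  -- commuting modulo the kernel
  have hcomm : ∀ i, 0 < i → i < Fintype.card K ^ 2 - 1 → ∀ v : Fin 2 → K,
      φ c ^ i * φ (uE (Multiplicative.ofAdd v)) = φ (uE (Multiplicative.ofAdd v)) * φ c ^ i → v = 0 := by
    intro i hi0 hi v h
    have h1 : φ (uE (Multiplicative.ofAdd (M ^ i *ᵥ v - v))) = 1 := by
      rw [ofAdd_sub, div_eq_mul_inv, map_mul, map_inv, ← hcv, map_mul, map_mul, map_inv, map_mul, map_inv, map_pow, h]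
      group
    have h2 : uE (Multiplicative.ofAdd (M ^ i *ᵥ v - v)) ∈ Subgroup.center _ := hφ h1
    rw [Subgroup.mem_center_iff] at h2
    have h4 := h2 (c ^ 1)
    have h5 := hcv 1 (M ^ i *ᵥ v - v)
    rw [h4, mul_inv_cancel_right] at h5
    have h6 := hM 1 one_pos h3 _ (Multiplicative.ofAdd.injective (uE_injective h5)).symm
    exact hM i hi0 hi v (sub_eq_zero.1 h6)
  have hord : orderOf (φ c) = Fintype.card K ^ 2 - 1 := by
    have h1 : orderOf (φ c) ∣ Fintype.card K ^ 2 - 1 := orderOf_dvd_of_pow_eq_one (by rw [← map_pow, hc1, map_one])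
    refine le_antisymm (Nat.le_of_dvd (by omega) h1) (not_lt.1 fun h2 => ?_)
    have h4 := hcomm (orderOf (φ c)) (orderOf_pos _) h2 (fun _ => 1) (by rw [pow_orderOf_eq_one, one_mul, mul_one])
    exact one_ne_zero (congrFun h4 0)
  have hker : ∀ v : Fin 2 → K, φ (uE (Multiplicative.ofAdd v)) = 1 → v = 0 := by
    intro v hv
    exact hcomm 1 one_pos h3 v (by rw [hv, mul_one, one_mul])
  rw [← hord]
  refine Frob.exists_orderOf (G := H) V ⟨⟨fun a b => Subtype.ext (hV.comm a a.2 b b.2)⟩⟩ hV.prime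
    hV.pow ((φ.comp uE).range) (c := φ c) ?_ ?_ ?_ ?_
  · rintro _ ⟨b, rfl⟩
    refine ⟨Multiplicative.ofAdd (M ^ 1 *ᵥ b.toAdd), ?_⟩
    have h1 := congrArg φ (hcv 1 b.toAdd)
    rw [pow_one, map_mul, map_mul, map_inv] at h1
    exact h1.symm
  · rintro i hi0 hi _ ⟨b, rfl⟩ h
    rw [hord] at hi
    have h1 := hcomm i hi0 hi b.toAdd h
    have : b = 1 := h1
    rw [this, map_one]
  · have h2 := Subgroup.card_range_dvd (φ.comp (uE (K := K)))
    have h4 : Nat.card (Multiplicative (Fin 2 → K)) = Fintype.card K ^ 2 := by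
      rw [Nat.card_congr (Multiplicative.toAdd (α := Fin 2 → K)), Nat.card_eq_fintype_card, Fintype.card_fun,
        Fintype.card_fin]
    rw [h4] at h2
    exact Nat.Coprime.coprime_dvd_left h2 (ht.pow_left 2)
  · obtain ⟨x, hx⟩ := QuotientGroup.mk_surjective (φ (uE (Multiplicative.ofAdd (fun _ => (1 : K)))))
    have h4 : (x : H ⧸ V) ≠ 1 := by
      rw [hx]
      intro h
      exact one_ne_zero (congrFun (hker _ h) 0)
    obtain ⟨v, hv, hxv⟩ := Cfsg.Agent.H411.Six.Cov.exists_ne hV e h4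
    exact ⟨x, by rw [hx]; exact ⟨Multiplicative.ofAdd (fun _ => (1 : K)), rfl⟩, v, hv, hxv⟩

end Main

theorem arith {q t : ℕ} (hq : 5 ≤ q) (hq2 : q % 4 = 1) (ht : t.Prime) (ht5 : t ≠ 5)
    (h : UB5 q ((q ^ 2 - 1) * t)) : False := by
  obtain ⟨k, rfl⟩ : ∃ k, q = 4 * k + 1 := ⟨q / 4, by omega⟩
  obtain ⟨s, rfl⟩ := Nat.exists_eq_add_of_le (show 1 ≤ k by omega)
  have e2 : (4 * (1 + s) + 1) ^ 2 - 1 = 16 * s ^ 2 + 40 * s + 24 := by
    have : (4 * (1 + s) + 1) ^ 2 = 16 * s ^ 2 + 40 * s + 24 + 1 := by ring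
    omega
  have e2' : (4 * (1 + s) + 1) ^ 2 + 1 = 16 * s ^ 2 + 40 * s + 26 := by ring
  have e3 : ((4 * (1 + s) + 1) ^ 3 - 1) / 2 = 32 * s ^ 3 + 120 * s ^ 2 + 150 * s + 62 := by
    have : (4 * (1 + s) + 1) ^ 3 = 2 * (32 * s ^ 3 + 120 * s ^ 2 + 150 * s + 62) + 1 := by ring
    omega
  have e3' : ((4 * (1 + s) + 1) ^ 3 + 1) / 2 = 32 * s ^ 3 + 120 * s ^ 2 + 150 * s + 63 := by
    have : (4 * (1 + s) + 1) ^ 3 + 1 = 2 * (32 * s ^ 3 + 120 * s ^ 2 + 150 * s + 63) := by ring
    omega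
  have e4 : ((4 * (1 + s) + 1) ^ 4 - 1) / 4 = 64 * s ^ 4 + 320 * s ^ 3 + 600 * s ^ 2 + 500 * s + 156 := by
    have : (4 * (1 + s) + 1) ^ 4 = 4 * (64 * s ^ 4 + 320 * s ^ 3 + 600 * s ^ 2 + 500 * s + 156) + 1 := by ring
    omega
  unfold UB5 at h
  rw [e3, e3', e2, e2', e4] at h
  have z2 := Nat.zero_le (s ^ 2)
  have hf : 16 * s ^ 2 + 40 * s + 24 = (4 * s + 6) * (4 * s + 4) := by ring
  have hp := ht.two_le
  rcases h with h | h | h | h | h | h
  · have h1 : 4 * s + 6 ∣ 32 * s ^ 3 + 120 * s ^ 2 + 150 * s + 62 := by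
      rw [hf, mul_assoc] at h
      exact (Dvd.intro _ rfl).trans h
    have h2 : 4 * s + 6 ∣ 2 * (32 * s ^ 3 + 120 * s ^ 2 + 150 * s + 62) + 2 :=
      ⟨16 * s ^ 2 + 36 * s + 21, by ring⟩
    have h3 := (Nat.dvd_add_right (h1.mul_left 2)).1 h2
    have := Nat.le_of_dvd two_pos h3
    omega
  · have h1 : 4 * s + 4 ∣ 32 * s ^ 3 + 120 * s ^ 2 + 150 * s + 63 := by
      rw [hf, mul_comm (4 * s + 6), mul_assoc] at h
      exact (Dvd.intro _ rfl).trans h
    have h2 : 4 * s + 4 ∣ 2 * (32 * s ^ 3 + 120 * s ^ 2 + 150 * s + 62) := ⟨16 * s ^ 2 + 44 * s + 31, by ring⟩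
    have h4 : 2 * (32 * s ^ 3 + 120 * s ^ 2 + 150 * s + 63) = 2 * (32 * s ^ 3 + 120 * s ^ 2 + 150 * s + 62) + 2 := by ring
    have h5 := h1.mul_left 2
    rw [h4] at h5
    have h3 := (Nat.dvd_add_right h2).1 h5
    have := Nat.le_of_dvd two_pos h3
    omega
  · obtain ⟨k, hk⟩ := h
    have h1 : (16 * s ^ 2 + 40 * s + 24) * (16 * s ^ 2 + 40 * s + 26) =
        (16 * s ^ 2 + 40 * s + 24) * (4 * (t * k)) := by
      have : (16 * s ^ 2 + 40 * s + 24) * (4 * (t * k)) = 4 * ((16 * s ^ 2 + 40 * s + 24) * t * k) := by ring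
      rw [this, ← hk]
      ring
    have h2 := Nat.eq_of_mul_eq_mul_left (by positivity) h1
    omega
  · have h1 : 16 * s ^ 2 + 40 * s + 24 ∣ 5 * (16 * s ^ 2 + 40 * s + 26) := (Dvd.intro _ rfl).trans h
    have h2 : 5 * (16 * s ^ 2 + 40 * s + 26) = 5 * (16 * s ^ 2 + 40 * s + 24) + 10 := by ring
    rw [h2] at h1
    have h3 := (Nat.dvd_add_right (Dvd.intro_left 5 rfl)).1 h1
    have := Nat.le_of_dvd (by norm_num) h3
    omega
  · rw [mul_comm 5] at h
    have h1 := Nat.dvd_of_mul_dvd_mul_left (by positivity) h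
    rcases (Nat.dvd_prime Nat.prime_five).1 h1 with h2 | h2
    · omega
    · exact ht5 h2
  · have h1 : 2 ∣ 25 := by
      refine Dvd.dvd.trans ?_ h
      exact Dvd.dvd.mul_right ⟨8 * s ^ 2 + 20 * s + 12, by ring⟩ t
    omega

/-- **N1, `B₃(q)`, characteristic 5, other characteristics.** -/
theorem nc_b3 {F : Type*} [Field F] [Fintype F] {m : ℕ} (hm : 1 ≤ m) (hF : Fintype.card F = 5 ^ m) {H : Type*}
    [Group H] [Finite H] (V : Subgroup H) [V.Normal] {t : ℕ} (ht5 : t ≠ 5) (hV : Cov t H V)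
    (e : H ⧸ V ≃* Cfsg.POmega F (Cfsg.quadFormOdd 3 F)) (hub : ∀ x : H, UB5 (Fintype.card F) (orderOf x)) : False := by
  obtain ⟨f, hf⟩ := exists_odd (K := F) (le_refl 3)
  have h1 : Fintype.card F % 4 = 1 := by
    rw [hF, Nat.pow_mod, show 5 % 4 = 1 by norm_num, one_pow, Nat.one_mod]
  have h5 : 5 ≤ Fintype.card F := by
    rw [hF]; exact Nat.le_self_pow (by omega) 5
  have hs : IsSimpleGroup (Cfsg.POmega F (Cfsg.quadFormOdd 3 F)) :=
    Cfsg.Agent.S0295.result (Nat.odd_iff.2 (by omega)) 3 le_rfl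
  obtain ⟨y, hy⟩ := exists_orderOf f hf V hV (by
    rw [hF]; exact Nat.Coprime.pow_left _ ((Nat.coprime_primes Nat.prime_five hV.prime).2 ht5.symm)) e
  have h2 := hub y
  rw [hy] at h2
  exact arith h5 h1 hV.prime ht5 h2

end Cfsg.Agent.H970.Cov
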